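import Cfsg.Agent.Lib.Fischer.Thm.List
import Cfsg.Agent.Lib.Fischer.Thm.Counts

/-!
# The neighbours of a member as the pairs of points of a symmetric group
-/

set_option autoImplicit false
set_option linter.unusedSectionVars false

namespace Cfsg.Lib.Fischer.Thm.Sym

open Equiv Cfsg Cfsg.Lib.Fischer Cfsg.Lib.Fischer.Relations Finset

theorem swap_support {α : Type*} [DecidableEq α] [Fintype α] {σ : Perm α} (h : σ.IsSwap) :
    σ.support.card = 2 := Perm.card_support_eq_two.2 h

theorem swap_eq_of_support {α : Type*} [DecidableEq α] [Fintype α] {σ τ : Perm α} (hσ : σ.IsSwap)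
    (hτ : τ.IsSwap) (h : σ.support = τ.support) : σ = τ := by
  obtain ⟨a, b, hab, rfl⟩ := hσ
  obtain ⟨c, d, hcd, rfl⟩ := hτ
  rw [Perm.support_swap hab, Perm.support_swap hcd] at h
  have ha : a ∈ ({c, d} : Finset α) := h ▸ mem_insert_self _ _
  have hb : b ∈ ({c, d} : Finset α) := h ▸ mem_insert_of_mem (mem_singleton_self _)
  simp only [mem_insert, mem_singleton] at ha hb
  rcases ha with rfl | rfl <;> rcases hb with rfl | rfl
  all_goals first | rfl | exact absurd rfl hab | exact swap_comm _ _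

theorem swap_commute_iff {α : Type*} [DecidableEq α] [Fintype α] {σ τ : Perm α} (hσ : σ.IsSwap)
    (hτ : τ.IsSwap) : Commute σ τ ↔ σ.support = τ.support ∨ Disjoint σ.support τ.support := by
  refine ⟨fun h => ?_, fun h => ?_⟩
  · by_contra hno
    rw [not_or] at hno
    obtain ⟨m, hm, hm'⟩ := Finset.not_disjoint_iff.1 hno.2
    have hconj : τ * σ * τ⁻¹ = σ := by rw [h.symm.eq, mul_inv_cancel_right]
    have hs := congrArg Perm.support hconj
    rw [Perm.support_conj] at hs
    obtain ⟨a, b, hab, rfl⟩ := hσ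
    obtain ⟨c, d, hcd, rfl⟩ := hτ
    rw [Perm.support_swap hab, Perm.support_swap hcd] at *
    simp only [mem_insert, mem_singleton] at hm hm'
    have e1 : ∀ k, k ∈ ({a, b} : Finset α) → swap c d k ∈ ({a, b} : Finset α) := fun k hk => by
      have hk' : (swap c d).toEmbedding k ∈ ({a, b} : Finset α).map (swap c d).toEmbedding :=
        Finset.mem_map_of_mem _ hk
      rw [hs] at hk'
      simpa using hk'
    have hc : c ∈ ({a, b} : Finset α) ∧ d ∈ ({a, b} : Finset α) := by
      have hmab : m ∈ ({a, b} : Finset α) := by simpa using hm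
      rcases hm' with rfl | rfl
      · exact ⟨hmab, by simpa using e1 m hmab⟩
      · exact ⟨by simpa using e1 m hmab, hmab⟩
    refine hno.1 (eq_of_subset_of_card_le ?_ ?_).symm
    · simp [insert_subset_iff, hc.1, hc.2]
    · rw [card_pair hab, card_pair hcd]
  · rcases h with h | h
    · rw [swap_eq_of_support hσ hτ h]
    · exact (Perm.disjoint_iff_disjoint_support.2 h).commute

variable {G : Type*} [Group G] {D : Set G} {x : G} {n : ℕ}

/-- The neighbours of `x` as the pairs of `n` points. -/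
structure Chart (D : Set G) (x : G) (n : ℕ) where
  φ : G → Finset (Fin n)
  two : ∀ y ∈ perp D x, (φ y).card = 2
  inj : ∀ a ∈ perp D x, ∀ b ∈ perp D x, φ a = φ b → a = b
  surj : ∀ P : Finset (Fin n), P.card = 2 → ∃ y ∈ perp D x, φ y = P
  commute : ∀ a ∈ perp D x, ∀ b ∈ perp D x, (Commute a b ↔ φ a = φ b ∨ Disjoint (φ a) (φ b))
  cj : ∀ a ∈ perp D x, ∀ b ∈ perp D x, ¬ Commute a b → φ (cj a b) = (φ a ∪ φ b) \ (φ a ∩ φ b)

theorem exists_chart [Finite G] (hF : IsFischer D) (hx : x ∈ D) (h : IsSym (Loc G D x) (locSet G D x) n) :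
    Nonempty (Chart D x n) := by
  classical
  obtain ⟨e, he⟩ := h
  have hD := hF.toTrans
  have hS : perp D x ⊆ D := fun _ h => h.1
  have hnc : ∀ a ∈ perp D x, ∃ b ∈ perp D x, ¬ Commute a b := fun a ha =>
    exists_perp_noncommute hD (fun a ha b hb h => eq_of_commute_iff hF (a := a) (b := b) ha hb h) hx ha
  let φ : G → Finset (Fin n) := fun y => if hy : y ∈ perp D x then (e (bar hy)).support else ∅
  have hφ : ∀ y (hy : y ∈ perp D x), φ y = (e (bar hy)).support := fun y hy => dif_pos hy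
  have hsw : ∀ y (hy : y ∈ perp D x), (e (bar hy)).IsSwap := fun y hy => by
    have hm : e (bar hy) ∈ e '' locSet G D x := ⟨_, bar_mem hy, rfl⟩
    rwa [he] at hm
  have hcomm : ∀ a (ha : a ∈ perp D x) b (hb : b ∈ perp D x),
      Commute a b ↔ Commute (e (bar ha)) (e (bar hb)) := fun a ha b hb => by
    rw [← bar_commute hD hS ha hb]
    exact ⟨fun h => h.map e.toMonoidHom, fun h => e.injective (by rw [map_mul, map_mul]; exact h)⟩
  refine ⟨⟨φ, fun y hy => hφ y hy ▸ swap_support (hsw y hy), fun a ha b hb hab => ?_, fun P hP => ?_,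
    fun a ha b hb => ?_, fun a ha b hb hab => ?_⟩⟩
  · rw [hφ a ha, hφ b hb] at hab
    exact bar_inj hD hS hnc ha hb (e.injective (swap_eq_of_support (hsw a ha) (hsw b hb) hab))
  · obtain ⟨i, j, hij, rfl⟩ := card_eq_two.1 hP
    have hm : swap i j ∈ e '' locSet G D x := by rw [he]; exact ⟨i, j, hij, rfl⟩
    obtain ⟨z, hz, hzu⟩ := hm
    obtain ⟨y, hy, rfl⟩ := exists_bar hz
    exact ⟨y, hy, by rw [hφ y hy, hzu, Perm.support_swap hij]⟩
  · rw [hφ a ha, hφ b hb, hcomm a ha b hb]
    exact swap_commute_iff (hsw a ha) (hsw b hb)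
  · have hab' : Cfsg.Lib.Fischer.cj a b ∈ perp D x := (cj_mem_perp hD hx (Set.mem_insert_of_mem _ ha) hb).1
    have e1 : bar hab' = bar ha * bar hb * bar ha := rfl
    rw [hcomm a ha b hb] at hab
    obtain ⟨i, j, hij, hi⟩ := hsw a ha
    obtain ⟨k, l, hkl, hk⟩ := hsw b hb
    rw [hφ _ hab', hφ a ha, hφ b hb, e1, map_mul, map_mul, hi, hk]
    rw [hi, hk, swap_commute_iff ⟨i, j, hij, rfl⟩ ⟨k, l, hkl, rfl⟩, Perm.support_swap hij, Perm.support_swap hkl,
      not_or, Finset.not_disjoint_iff] at hab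
    have hconj : swap i j * swap k l * swap i j = swap (swap i j k) (swap i j l) := by
      rw [Equiv.swap_apply_apply, Equiv.swap_inv]
    rw [hconj, Perm.support_swap ((swap i j).injective.ne hkl), Perm.support_swap hij, Perm.support_swap hkl]
    obtain ⟨hne, m, hm, hm'⟩ := hab
    simp only [mem_insert, mem_singleton] at hm hm'
    ext u
    simp only [mem_insert, mem_singleton, mem_sdiff, mem_union, mem_inter]
    rcases hm with rfl | rfl <;> rcases hm' with rfl | rfl
    · rw [swap_apply_left, swap_apply_of_ne_of_ne hkl.symm (fun h => hne (by rw [h]))]; grind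
    · rw [swap_apply_left, swap_apply_of_ne_of_ne hkl (fun h => hne (by rw [h, pair_comm]))]; grind
    · rw [swap_apply_right, swap_apply_of_ne_of_ne (fun h => hne (by rw [h, pair_comm])) hkl.symm]; grind
    · rw [swap_apply_right, swap_apply_of_ne_of_ne (fun h => hne (by rw [h])) hkl]; grind

variable [Finite G] (hF : IsFischer D) (C : Chart D x n)
include hF C

/-- The chart at another member. -/
theorem Chart.transport {a : G} (g : G) (hg : g * x * g⁻¹ = a) : Nonempty (Chart D a n) := by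
  subst hg
  have hD := hF.toTrans
  have hm : ∀ z, z ∈ perp D (g * x * g⁻¹) ↔ g⁻¹ * z * g ∈ perp D x := mem_perp_conj hD g x
  have hc : ∀ a b : G, Commute (g⁻¹ * a * g) (g⁻¹ * b * g) ↔ Commute a b := fun a b => by
    have h := Commute.conj_iff g⁻¹ (a := a) (b := b)
    rwa [inv_inv] at h
  refine ⟨⟨fun z => C.φ (g⁻¹ * z * g), fun z hz => C.two _ ((hm z).1 hz), fun a ha b hb hab => ?_, fun P hP => ?_,
    fun a ha b hb => ?_, fun a ha b hb hab => ?_⟩⟩
  · have := C.inj _ ((hm a).1 ha) _ ((hm b).1 hb) hab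
    simpa using this
  · obtain ⟨y, hy, rfl⟩ := C.surj P hP
    refine ⟨g * y * g⁻¹, (hm _).2 (by simpa [mul_assoc] using hy), ?_⟩
    simp [mul_assoc]
  · rw [← hc a b]
    exact C.commute _ ((hm a).1 ha) _ ((hm b).1 hb)
  · rw [← hc a b] at hab
    have h := C.cj _ ((hm a).1 ha) _ ((hm b).1 hb) hab
    rw [← h]
    congr 1
    simp [cj_def, mul_assoc]

/-- The pairs of a set of neighbours. -/
theorem Chart.card_eq {S : Set G} (hS : S ⊆ perp D x) (T : Finset (Finset (Fin n)))
    (h : ∀ P, P ∈ T ↔ ∃ z ∈ S, C.φ z = P) : S.ncard = T.card := by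
  classical
  have : Fintype G := Fintype.ofFinite G
  rw [Set.ncard_eq_toFinset_card']
  refine Finset.card_bij (fun z _ => C.φ z) (fun z hz => (h _).2 ⟨z, by simpa using hz, rfl⟩)
    (fun a ha b hb hab => C.inj a (hS (by simpa using ha)) b (hS (by simpa using hb)) hab) fun P hP => ?_
  obtain ⟨z, hz, rfl⟩ := (h P).1 hP
  exact ⟨z, by simpa using hz, rfl⟩

theorem Chart.card_perp : (perp D x).ncard = n.choose 2 := by
  rw [C.card_eq hF subset_rfl ((univ : Finset (Fin n)).powersetCard 2) fun P => ?_]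
  · simp
  · rw [mem_powersetCard]
    refine ⟨fun h => C.surj P h.2, ?_⟩
    rintro ⟨z, hz, rfl⟩
    exact ⟨subset_univ _, C.two z hz⟩

theorem Chart.card_inner {y : G} (hy : y ∈ perp D x) : (inner D x y).ncard = (n - 2).choose 2 := by
  rw [C.card_eq hF (show inner D x y ⊆ perp D x from Set.inter_subset_left) ((C.φ y)ᶜ.powersetCard 2) fun P => ?_]
  · rw [card_powersetCard, card_compl, C.two y hy, Fintype.card_fin]
  · rw [mem_powersetCard]
    constructor
    · rintro ⟨hsub, hc⟩
      obtain ⟨z, hz, rfl⟩ := C.surj P hc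
      refine ⟨z, ⟨hz, hz.1, fun e => ?_, ?_⟩, rfl⟩
      · subst e
        obtain ⟨u, hu⟩ := card_pos.1 (by rw [C.two z hz]; norm_num : 0 < (C.φ z).card)
        exact mem_compl.1 (hsub hu) hu
      · exact (C.commute z hz y hy).2 (Or.inr (disjoint_left.2 fun u hu => mem_compl.1 (hsub hu))) |>.symm
    · rintro ⟨z, ⟨hz, hzy⟩, rfl⟩
      refine ⟨fun u hu => mem_compl.2 ?_, C.two z hz⟩
      rcases (C.commute z hz y hy).1 hzy.2.2.symm with h | h
      · exact absurd (C.inj z hz y hy h) hzy.2.1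
      · exact disjoint_left.1 h hu

/-- Two non-commuting neighbours have `C(n - 3, 2)` common ones. -/
theorem Chart.card_trace {a b : G} (ha : a ∈ perp D x) (hb : b ∈ perp D x) (hab : ¬ Commute a b) :
    ({z | z ∈ perp D x ∧ Commute z a ∧ Commute z b ∧ z ≠ a} : Set G).ncard = (n - 3).choose 2 := by
  have hab' := mt (C.commute a ha b hb).2 hab
  rw [not_or] at hab'
  rw [C.card_eq hF (fun z hz => hz.1) ((C.φ a ∪ C.φ b)ᶜ.powersetCard 2) fun P => ?_]
  · have h1 : (C.φ a ∩ C.φ b).card = 1 := by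
      have hle : (C.φ a ∩ C.φ b).card ≤ 2 := C.two a ha ▸ card_le_card inter_subset_left
      have hpos : 0 < (C.φ a ∩ C.φ b).card := by
        rw [card_pos]
        exact Finset.not_disjoint_iff_nonempty_inter.1 hab'.2
      by_contra hne
      have e1 := eq_of_subset_of_card_le (inter_subset_left (s₁ := C.φ a) (s₂ := C.φ b)) (by rw [C.two a ha]; omega)
      have e2 := eq_of_subset_of_card_le (inter_subset_right (s₁ := C.φ a) (s₂ := C.φ b)) (by rw [C.two b hb]; omega)
      exact hab'.1 (e1.symm.trans e2)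
    have h2 := card_union_add_card_inter (C.φ a) (C.φ b)
    rw [C.two a ha, C.two b hb, h1] at h2
    rw [card_powersetCard, card_compl, Fintype.card_fin, show (C.φ a ∪ C.φ b).card = 3 by omega]
  · rw [mem_powersetCard]
    constructor
    · rintro ⟨hsub, hc⟩
      obtain ⟨z, hz, rfl⟩ := C.surj P hc
      refine ⟨z, ⟨hz, ?_, ?_, fun e => ?_⟩, rfl⟩
      · exact (C.commute z hz a ha).2 (Or.inr (disjoint_left.2 fun u hu hu' =>
          mem_compl.1 (hsub hu) (mem_union_left _ hu')))
      · exact (C.commute z hz b hb).2 (Or.inr (disjoint_left.2 fun u hu hu' =>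
          mem_compl.1 (hsub hu) (mem_union_right _ hu')))
      · subst e
        obtain ⟨u, hu⟩ := card_pos.1 (by rw [C.two z hz]; norm_num : 0 < (C.φ z).card)
        exact mem_compl.1 (hsub hu) (mem_union_left _ hu)
    · rintro ⟨z, ⟨hz, hza, hzb, hne⟩, rfl⟩
      refine ⟨fun u hu => mem_compl.2 fun hu' => ?_, C.two z hz⟩
      rcases (C.commute z hz a ha).1 hza with h | h
      · exact hne (C.inj z hz a ha h)
      rcases mem_union.1 hu' with hu' | hu'
      · exact disjoint_left.1 h hu hu'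
      · rcases (C.commute z hz b hb).1 hzb with h' | h'
        · exact hab'.2 (h' ▸ h.symm)
        · exact disjoint_left.1 h' hu hu'

end Cfsg.Lib.Fischer.Thm.Sym
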