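import Cfsg.Agent.Lib.Fischer.Thm.Counts
import Mathlib.LinearAlgebra.Matrix.Charpoly.FiniteField

/-!
# No class of forty-one members with ten neighbours

With ten neighbours, three common neighbours of a commuting and two of a non-commuting pair the adjacency matrix
modulo eleven would be six plus a matrix whose trace differs from the trace of its eleventh power.
-/

set_option autoImplicit false
set_option linter.unusedSectionVars false

namespace Cfsg.Lib.Fischer.Thm.Sym

open Cfsg Cfsg.Lib.Fischer Finset

theorem z11_a : (10 : ZMod 11) - 12 * 0 + 36 * 1 = 2 * 1 := by decide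

theorem z11_b : ∀ t : ZMod 11, 2 + t - 12 * t + 36 * 0 = 2 * 1 := by decide

theorem z11_c : (10 : ZMod 11) - 6 = 4 := by decide

theorem z11_d : (2 : ZMod 11) * 4 ^ 9 * 41 ≠ (0 - 6 * 41) ^ 11 := by decide

/-- A matrix with this square has another trace. -/
theorem no_matrix {V : Type*} [Fintype V] [DecidableEq V] (hV : Fintype.card V = 41)
    (A : Matrix V V (ZMod 11)) (hdiag : ∀ a, A a a = 0) (hrow : ∀ a, ∑ b, A a b = 10)
    (hsq : ∀ a b, (A * A) a b = if a = b then 10 else 2 + A a b) : False := by
  have : Fact (Nat.Prime 11) := ⟨by norm_num⟩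
  obtain ⟨J, hJ⟩ : ∃ J : Matrix V V (ZMod 11), ∀ a b, J a b = 1 := ⟨Matrix.of fun _ _ => 1, fun _ _ => rfl⟩
  obtain ⟨N, hN⟩ : ∃ N : Matrix V V (ZMod 11), N = A - (6 : ZMod 11) • (1 : Matrix V V (ZMod 11)) := ⟨_, rfl⟩
  have hN2 : N * N = (2 : ZMod 11) • J := by
    have hexp : N * N = A * A - (12 : ZMod 11) • A + (36 : ZMod 11) • (1 : Matrix V V (ZMod 11)) := by
      rw [hN]
      simp only [Matrix.sub_mul, Matrix.mul_sub, Matrix.smul_mul, Matrix.mul_smul, Matrix.one_mul, Matrix.mul_one]
      module
    rw [hexp]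
    ext a b
    simp only [Matrix.add_apply, Matrix.sub_apply, Matrix.smul_apply, hsq, hJ, Matrix.one_apply, smul_eq_mul]
    by_cases hab : a = b
    · subst hab
      rw [if_pos rfl, if_pos rfl, hdiag]
      exact z11_a
    · rw [if_neg hab, if_neg hab]
      exact z11_b _
  have hNJ : N * J = (4 : ZMod 11) • J := by
    ext a b
    rw [hN, Matrix.sub_mul, Matrix.smul_mul, Matrix.one_mul, Matrix.sub_apply, Matrix.mul_apply]
    simp only [hJ, mul_one, hrow, Matrix.smul_apply, smul_eq_mul]
    exact z11_c
  have hpow : ∀ k : ℕ, N ^ (k + 2) = ((2 : ZMod 11) * 4 ^ k) • J := by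
    intro k
    induction k with
    | zero => rw [zero_add, pow_two, hN2]; rfl
    | succ k ih =>
      rw [pow_succ', ih, Matrix.mul_smul, hNJ, smul_smul]
      congr 1
      ring
  have h := ZMod.trace_pow_card N
  rw [hpow 9] at h
  have hA : Matrix.trace A = 0 := Finset.sum_eq_zero fun a _ => hdiag a
  have hJt : Matrix.trace J = 41 := by
    simp only [Matrix.trace, Matrix.diag, hJ, Finset.sum_const, Finset.card_univ, hV]
    rfl
  rw [hN, Matrix.trace_smul, Matrix.trace_sub, Matrix.trace_smul, Matrix.trace_one, hA, hJt, hV] at h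
  simp only [smul_eq_mul, Nat.cast_ofNat] at h
  exact z11_d h

variable {G : Type*} [Group G] [Finite G] {D : Set G} (hF : IsFischer D) {x e y : G}
include hF

theorem no_forty_one (hx : x ∈ D) (he : e ∈ D) (hxe : ¬ Commute x e) (hy : y ∈ perp D x)
    (hk : (perp D x).ncard = 10) (hl : (inner D x y).ncard = 3) (hm : (inner D x e).ncard = 2) : False := by
  classical
  have : Fintype G := Fintype.ofFinite G
  have hcount := count hF hx he hxe hy
  rw [hk, hl, hm] at hcount
  have hfar : (far D x).ncard = 30 := by omega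
  have hD41 : D.ncard = 41 := by
    have e1 : D = insert x (perp D x) ∪ far D x := by
      ext d
      constructor
      · intro hd
        by_cases hxd : Commute x d
        · rcases eq_or_ne d x with e' | e'
          · exact Or.inl (Or.inl e')
          · exact Or.inl (Or.inr ⟨hd, e', hxd⟩)
        · exact Or.inr ⟨hd, hxd⟩
      · rintro ((rfl | h) | h)
        exacts [hx, h.1, h.1]
    rw [e1, Set.ncard_union_eq ?_ (Set.toFinite _) (Set.toFinite _),
      Set.ncard_insert_of_notMem (fun h => h.2.1 rfl) (Set.toFinite _), hk, hfar]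
    rw [Set.disjoint_left]
    rintro d (rfl | hd) hd'
    · exact hd'.2 (Commute.refl d)
    · exact hd'.2 hd.2.2
  let A : Matrix ↥D ↥D (ZMod 11) := Matrix.of fun a b =>
    if (b : G) ∈ perp D (a : G) then 1 else 0
  refine no_matrix (V := ↥D) (by rw [← Nat.card_eq_fintype_card, Nat.card_coe_set_eq, hD41]) A
    (fun a => if_neg fun h => h.2.1 rfl) (fun a => ?_) (fun a b => ?_)
  · show ∑ b : ↥D, (if (b : G) ∈ perp D (a : G) then (1 : ZMod 11) else 0) = 10
    rw [Finset.sum_boole]
    have hc : (univ.filter fun b : ↥D => (b : G) ∈ perp D (a : G)).card = 10 := by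
      rw [← hk, ← perp_card hF hx a.2, Set.ncard_eq_toFinset_card']
      exact Finset.card_bij (fun b _ => (b : G)) (fun b hb => by simpa using hb)
        (fun b _ c _ hbc => Subtype.ext hbc) (fun c hc => by
          rw [Set.mem_toFinset] at hc
          exact ⟨⟨c, hc.1⟩, by simpa using hc, rfl⟩)
    rw [hc]
    rfl
  · show ∑ c : ↥D, (if (c : G) ∈ perp D (a : G) then (1 : ZMod 11) else 0) *
      (if (b : G) ∈ perp D (c : G) then (1 : ZMod 11) else 0) = _
    simp only [ite_mul, one_mul, zero_mul, ← ite_and]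
    rw [Finset.sum_boole]
    have hc : (univ.filter fun c : ↥D => (c : G) ∈ perp D (a : G) ∧ (b : G) ∈ perp D (c : G)).card =
        (inner D (a : G) b).ncard := by
      rw [Set.ncard_eq_toFinset_card']
      refine Finset.card_bij (fun c _ => (c : G)) ?_ (fun c _ d _ h => Subtype.ext h) ?_
      · intro c hc
        simp only [mem_filter, mem_univ, true_and] at hc
        simp only [Set.mem_toFinset]
        exact ⟨hc.1, c.2, fun e' => hc.2.2.1 e'.symm, hc.2.2.2.symm⟩
      · intro c hc
        simp only [Set.mem_toFinset] at hc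
        exact ⟨⟨c, hc.1.1⟩, by simpa using ⟨hc.1, b.2, hc.2.2.1.symm, hc.2.2.2.symm⟩, rfl⟩
    rw [hc]
    by_cases hab : a = b
    · subst hab
      rw [if_pos rfl, inner, Set.inter_self, perp_card hF hx a.2, hk]
      rfl
    · rw [if_neg hab]
      have hne : (b : G) ≠ a := fun e' => hab (Subtype.ext e'.symm)
      by_cases hcm : Commute (a : G) b
      · rw [inner_near hF hx hy a.2 ⟨b.2, hne, hcm⟩, hl]
        simp only [A, Matrix.of_apply, if_pos (show (b : G) ∈ perp D (a : G) from ⟨b.2, hne, hcm⟩)]
        decide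
      · rw [inner_far hF hx he hxe a.2 b.2 hcm, hm]
        simp only [A, Matrix.of_apply, if_neg (fun h : (b : G) ∈ perp D (a : G) => hcm h.2.2)]
        decide

end Cfsg.Lib.Fischer.Thm.Sym
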