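import Mathlib.Tactic
import Mathlib.Data.Fintype.Powerset
import Mathlib.Data.Nat.Choose.Cast

/-!
# Sets of pairs which are unions of cliques and regular under disjointness
-/

set_option autoImplicit false

namespace Cfsg.Lib.Fischer.Thm.Sym

open Finset

variable {α : Type*} [Fintype α] [DecidableEq α]

/-- A set of pairs: a union of cliques in which each member is disjoint from `C(n - 3, 2)` others. -/
structure Config (S : Finset (Finset α)) : Prop where
  card : ∀ P ∈ S, P.card = 2
  trans : ∀ i j k : α, i ≠ k → {i, j} ∈ S → {j, k} ∈ S → {i, k} ∈ S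
  reg : ∀ P ∈ S, (S.filter fun Q => Disjoint P Q).card = (Fintype.card α - 3).choose 2

theorem choose_strict {b n : ℕ} (hb : 4 ≤ b) (hn : b + 2 ≤ n) :
    (b - 2).choose 2 + (n - b).choose 2 < (n - 3).choose 2 := by
  obtain ⟨a, rfl⟩ : ∃ a, b = a + 4 := ⟨b - 4, by omega⟩
  obtain ⟨c, rfl⟩ : ∃ c, n = a + 4 + (c + 2) := ⟨n - (a + 6), by omega⟩
  rw [show a + 4 - 2 = a + 2 by omega, show a + 4 + (c + 2) - (a + 4) = c + 2 by omega,
    show a + 4 + (c + 2) - 3 = a + c + 3 by omega]
  have h : ((a + 2).choose 2 : ℚ) + ((c + 2).choose 2 : ℚ) < ((a + c + 3).choose 2 : ℚ) := by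
    rw [Nat.cast_choose_two, Nat.cast_choose_two, Nat.cast_choose_two]
    push_cast
    have ha : (0 : ℚ) ≤ a := Nat.cast_nonneg a
    have hc : (0 : ℚ) ≤ c := Nat.cast_nonneg c
    nlinarith [mul_nonneg ha hc]
  exact_mod_cast h

theorem choose_large {n : ℕ} (hn : 7 ≤ n) : n < 2 * ((n - 3).choose 2 + 1) := by
  obtain ⟨a, rfl⟩ : ∃ a, n = a + 7 := ⟨n - 7, by omega⟩
  have h : ((a + 7 : ℕ) : ℚ) < 2 * (((a + 4).choose 2 : ℚ) + 1) := by
    rw [Nat.cast_choose_two]
    push_cast
    have ha : (0 : ℚ) ≤ a := Nat.cast_nonneg a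
    nlinarith
  rw [show a + 7 - 3 = a + 4 by omega]
  exact_mod_cast h

variable {S : Finset (Finset α)} (h : Config S)
include h

theorem Config.ne {i j : α} (hij : {i, j} ∈ S) : i ≠ j := by
  rintro rfl
  simpa using h.card _ hij

/-- The clique of a pair. -/
theorem Config.exists_block {P : Finset α} (hP : P ∈ S) :
    ∃ B : Finset α, P ⊆ B ∧ B.powersetCard 2 ⊆ S ∧ ∀ Q ∈ S, Q ⊆ B ∨ Disjoint Q B := by
  obtain ⟨i, j, hij, rfl⟩ := card_eq_two.1 (h.card P hP)
  refine ⟨univ.filter fun k => k = i ∨ {i, k} ∈ S, ?_, ?_, ?_⟩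
  · intro k hk
    simp only [mem_insert, mem_singleton] at hk
    rw [mem_filter]
    rcases hk with rfl | rfl
    · exact ⟨mem_univ _, Or.inl rfl⟩
    · exact ⟨mem_univ _, Or.inr hP⟩
  · intro Q hQ
    obtain ⟨hsub, hc⟩ := mem_powersetCard.1 hQ
    obtain ⟨k, l, hkl, rfl⟩ := card_eq_two.1 hc
    have hk := hsub (mem_insert_self k {l})
    have hl := hsub (mem_insert_of_mem (mem_singleton_self l))
    simp only [mem_filter, mem_univ, true_and] at hk hl
    rcases hk with rfl | hk
    · exact hl.resolve_left hkl.symm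
    · rcases hl with rfl | hl
      · rwa [pair_comm]
      · exact h.trans k i l hkl (by rwa [pair_comm]) hl
  · intro Q hQ
    obtain ⟨k, l, hkl, rfl⟩ := card_eq_two.1 (h.card Q hQ)
    have key : ∀ a b : α, {a, b} ∈ S → (a = i ∨ {i, a} ∈ S) → (b = i ∨ {i, b} ∈ S) := by
      intro a b hab ha
      by_cases hb : b = i
      · exact Or.inl hb
      · rcases ha with rfl | ha
        · exact Or.inr hab
        · exact Or.inr (h.trans i a b (Ne.symm hb) ha hab)
    by_cases hk : k = i ∨ {i, k} ∈ S
    · left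
      intro m hm
      simp only [mem_insert, mem_singleton] at hm
      rw [mem_filter]
      rcases hm with rfl | rfl
      · exact ⟨mem_univ _, hk⟩
      · exact ⟨mem_univ _, key k m hQ hk⟩
    · right
      rw [disjoint_left]
      intro m hm hm'
      simp only [mem_insert, mem_singleton] at hm
      simp only [mem_filter, mem_univ, true_and] at hm'
      rcases hm with rfl | rfl
      · exact hk hm'
      · exact hk (key m k (by rwa [pair_comm]) hm')

theorem Config.filter_sub {P B : Finset α} (hPB : P ⊆ B) (hB : ∀ Q ∈ S, Q ⊆ B ∨ Disjoint Q B) :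
    (S.filter fun Q => Disjoint P Q) ⊆ (B \ P).powersetCard 2 ∪ Bᶜ.powersetCard 2 := by
  intro Q hQ
  rw [mem_filter] at hQ
  have hc := h.card Q hQ.1
  rw [mem_union]
  rcases hB Q hQ.1 with h' | h'
  · exact Or.inl (mem_powersetCard.2 ⟨fun a ha => mem_sdiff.2 ⟨h' ha,
      fun hp => disjoint_left.1 hQ.2 hp ha⟩, hc⟩)
  · exact Or.inr (mem_powersetCard.2 ⟨fun a ha => mem_compl.2 (disjoint_left.1 h' ha), hc⟩)

theorem Config.block_small {P B : Finset α} (hP : P ∈ S) (hPB : P ⊆ B)
    (hB : ∀ Q ∈ S, Q ⊆ B ∨ Disjoint Q B) (h4 : 4 ≤ B.card) (hn : B.card + 2 ≤ Fintype.card α) : False := by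
  have h1 := card_le_card (h.filter_sub hPB hB)
  rw [h.reg P hP] at h1
  have h2 := h1.trans (card_union_le _ _)
  rw [card_powersetCard, card_powersetCard, card_compl, card_sdiff_of_subset hPB, h.card P hP] at h2
  exact absurd (choose_strict h4 hn) (Nat.not_lt.2 h2)

theorem Config.block_three (hn : Fintype.card α = 5 ∨ 7 ≤ Fintype.card α) {P B : Finset α} (hP : P ∈ S)
    (hPB : P ⊆ B) (hBS : B.powersetCard 2 ⊆ S) (hB : ∀ Q ∈ S, Q ⊆ B ∨ Disjoint Q B) (h3 : B.card = 3) :
    False := by
  have hsub := h.filter_sub hPB hB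
  have he : (B \ P).powersetCard 2 = ∅ := powersetCard_eq_empty.2 (by
    rw [card_sdiff_of_subset hPB, h.card P hP, h3]
    norm_num)
  rw [he, empty_union] at hsub
  have heq := eq_of_subset_of_card_le hsub (by
    rw [h.reg P hP, card_powersetCard, card_compl, h3])
  have hall : Bᶜ.powersetCard 2 ⊆ S := by
    rw [← heq]
    exact filter_subset _ _
  obtain ⟨P', hP'⟩ : ∃ P', P' ∈ Bᶜ.powersetCard 2 := powersetCard_nonempty.2 (by
    rw [card_compl, h3]; omega)
  obtain ⟨hP'B, hP'2⟩ := mem_powersetCard.1 hP'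
  have hP'S := hall hP'
  rcases hn with hn | hn
  · have h1 : B.powersetCard 2 ⊆ S.filter fun Q => Disjoint P' Q := by
      intro Q hQ
      rw [mem_filter]
      refine ⟨hBS hQ, disjoint_left.2 fun a ha ha' => ?_⟩
      exact mem_compl.1 (hP'B ha) ((mem_powersetCard.1 hQ).1 ha')
    have := card_le_card h1
    rw [h.reg P' hP'S, card_powersetCard, h3, hn] at this
    norm_num at this
  · obtain ⟨B', hPB', hBS', hB'⟩ := h.exists_block hP'S
    obtain ⟨a, b, hab, rfl⟩ := card_eq_two.1 hP'2
    have ha : a ∈ Bᶜ := hP'B (mem_insert_self _ _)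
    have haB' : a ∈ B' := hPB' (mem_insert_self _ _)
    have hle : Bᶜ ⊆ B' := by
      intro k hk
      by_cases hka : k = a
      · exact hka ▸ haB'
      · have hQ : ({a, k} : Finset α) ∈ S := hall (mem_powersetCard.2
          ⟨by simp [insert_subset_iff, ha, hk], card_pair (Ne.symm hka)⟩)
        rcases hB' _ hQ with h' | h'
        · exact h' (by simp)
        · exact absurd haB' (disjoint_left.1 h' (mem_insert_self _ _))
    have hge : B' ⊆ Bᶜ := by
      intro k hk
      rw [mem_compl]
      intro hkB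
      have hka : k ≠ a := fun e => mem_compl.1 ha (e ▸ hkB)
      have hQ : ({a, k} : Finset α) ∈ S := hBS' (mem_powersetCard.2
        ⟨by simp [insert_subset_iff, haB', hk], card_pair hka.symm⟩)
      rcases hB _ hQ with h' | h'
      · exact mem_compl.1 ha (h' (mem_insert_self _ _))
      · exact disjoint_left.1 h' (mem_insert_of_mem (mem_singleton_self k)) hkB
    have hc : B'.card = Fintype.card α - 3 := by rw [subset_antisymm hge hle, card_compl, h3]
    exact h.block_small hP'S hPB' hB' (by omega) (by omega)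

/-- All pairs, all pairs avoiding one point, or two disjoint pairs of five points. -/
theorem Config.shape (hn : Fintype.card α = 5 ∨ 7 ≤ Fintype.card α) (hne : S.Nonempty) :
    (∀ P : Finset α, P.card = 2 → P ∈ S) ∨ (∃ k, ∀ P : Finset α, P.card = 2 → (P ∈ S ↔ k ∉ P)) ∨
      (Fintype.card α = 5 ∧ S.card = 2) := by
  by_cases hbig : ∃ P ∈ S, ∃ B : Finset α, P ⊆ B ∧ B.powersetCard 2 ⊆ S ∧ (∀ Q ∈ S, Q ⊆ B ∨ Disjoint Q B) ∧
      3 ≤ B.card
  · obtain ⟨P, hP, B, hPB, hBS, hB, h3⟩ := hbig
    have hle := B.card_le_univ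
    rcases Nat.lt_or_ge (B.card + 2) (Fintype.card α + 1) with hlt | hge
    · exfalso
      rcases Nat.lt_or_ge B.card 4 with h4 | h4
      · exact h.block_three hn hP hPB hBS hB (by omega)
      · exact h.block_small hP hPB hB h4 (by omega)
    · rcases Nat.eq_or_lt_of_le hle with heq | hlt
      · left
        intro Q hQ
        exact hBS (mem_powersetCard.2 ⟨(card_eq_iff_eq_univ B).1 heq ▸ subset_univ Q, hQ⟩)
      · right; left
        have h1 : Bᶜ.card = 1 := by rw [card_compl]; omega
        obtain ⟨k, hk⟩ := card_eq_one.1 h1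
        refine ⟨k, fun Q hQ => ⟨fun hQS hkQ => ?_, fun hkQ => hBS (mem_powersetCard.2 ⟨fun a ha => ?_, hQ⟩)⟩⟩
        · have hkB : k ∉ B := mem_compl.1 (hk ▸ mem_singleton_self k)
          rcases hB Q hQS with h' | h'
          · exact hkB (h' hkQ)
          · have hsub : Q ⊆ Bᶜ := fun a ha => mem_compl.2 (disjoint_left.1 h' ha)
            have := card_le_card hsub
            omega
        · by_contra haB
          have : a ∈ Bᶜ := mem_compl.2 haB
          rw [hk, mem_singleton] at this
          exact hkQ (this ▸ ha)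
  · right; right
    have hdis : ∀ P ∈ S, ∀ Q ∈ S, P ≠ Q → Disjoint P Q := by
      intro P hP Q hQ hne'
      obtain ⟨B, hPB, hBS, hB⟩ := h.exists_block hP
      have hB2 : B = P := by
        refine (eq_of_subset_of_card_le hPB ?_).symm
        rw [h.card P hP]
        by_contra hlt
        exact hbig ⟨P, hP, B, hPB, hBS, hB, by omega⟩
      rcases hB Q hQ with h' | h'
      · exact absurd (eq_of_subset_of_card_le (hB2 ▸ h') (by rw [h.card P hP, h.card Q hQ])).symm hne'
      · exact (hB2 ▸ h').symm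
    obtain ⟨P, hP⟩ := hne
    have hcard : S.card = (Fintype.card α - 3).choose 2 + 1 := by
      have he : (S.filter fun Q => Disjoint P Q) = S.erase P := by
        ext Q
        simp only [mem_filter, mem_erase]
        refine ⟨fun ⟨hQ, hd⟩ => ⟨fun e => ?_, hQ⟩, fun ⟨hne', hQ⟩ => ⟨hQ, hdis P hP Q hQ hne'.symm⟩⟩
        subst e
        rw [disjoint_self_iff_empty] at hd
        simpa [hd] using h.card Q hP
      have := h.reg P hP
      rw [he, card_erase_of_mem hP] at this
      have := card_pos.2 ⟨P, hP⟩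
      omega
    rcases hn with hn | hn
    · exact ⟨hn, by rw [hcard, hn]; rfl⟩
    · exfalso
      have h1 : (S.biUnion id).card = 2 * S.card := by
        rw [card_biUnion (t := id) (fun P hP Q hQ hne' => hdis P hP Q hQ hne'),
          sum_congr rfl (fun Q hQ => show (id Q).card = 2 from h.card Q hQ), sum_const, smul_eq_mul, mul_comm]
      have h2 := (S.biUnion id).card_le_univ
      rw [h1, hcard] at h2
      exact absurd (choose_large hn) (Nat.not_lt.2 h2)

end Cfsg.Lib.Fischer.Thm.Sym
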