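import Cfsg.Agent.Lib.Fischer.Thm.Steps
import Cfsg.Agent.Lib.Fischer.Thm.Sym.Chart
import Cfsg.Agent.Lib.Fischer.Thm.Sym.Pattern
import Cfsg.Agent.Lib.Fischer.Thm.Sym.Param
import Cfsg.Agent.Lib.Fischer.LocalSym.SymN
import Mathlib.GroupTheory.SpecificGroups.Alternating.Simple

/-!
# A symmetric neighbourhood gives a symmetric group of degree two higher
-/

set_option autoImplicit false
set_option linter.unusedSectionVars false

namespace Cfsg.Lib.Fischer.Thm.Sym

open Equiv Cfsg Cfsg.Lib.Fischer Finset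

variable {G : Type*} [Group G] [Finite G] {D : Set G} (hF : IsFischer D) {x : G} {n : ℕ}
include hF

/-- Some member away from `x` misses exactly the pairs through one point. -/
theorem exists_point (hx : x ∈ D) (C : Chart D x n) (hn : n = 5 ∨ 7 ≤ n) :
    ∃ d ∈ D, ¬ Commute x d ∧ ∃ k : Fin n, ∀ y ∈ perp D x, (Commute d y ↔ k ∉ C.φ y) := by
  classical
  have : Fintype G := Fintype.ofFinite G
  have hD := hF.toTrans
  obtain ⟨d, hd, hxd⟩ := exists_not_commute hF hx
  obtain ⟨y₀, hy₀⟩ := common_nonempty hF hx hd hxd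
  obtain ⟨S, hS⟩ : ∃ S : Finset (Finset (Fin n)), S = (common D x d).toFinset.image C.φ := ⟨_, rfl⟩
  have hmem : ∀ P, P ∈ S ↔ ∃ z ∈ common D x d, C.φ z = P := fun P => by
    simp [hS]
  have hmem' : ∀ y ∈ perp D x, (C.φ y ∈ S ↔ Commute d y) := fun y hy => by
    rw [hmem]
    refine ⟨?_, fun h => ⟨y, ⟨hy, h⟩, rfl⟩⟩
    rintro ⟨z, hz, he⟩
    exact C.inj z hz.1 y hy he ▸ hz.2
  have hconf : Config S := by
    refine ⟨fun P hP => ?_, fun i j k hik hij hjk => ?_, fun P hP => ?_⟩
    · obtain ⟨z, hz, rfl⟩ := (hmem P).1 hP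
      exact C.two z hz.1
    · by_cases hijk : ({i, j} : Finset (Fin n)) = {j, k}
      · exfalso
        have h : i ∈ ({j, k} : Finset (Fin n)) := hijk ▸ mem_insert_self i {j}
        simp only [mem_insert, mem_singleton] at h
        rcases h with rfl | h
        · obtain ⟨z, hz, he⟩ := (hmem _).1 hij
          have := C.two z hz.1
          rw [he] at this
          simp at this
        · exact hik h
      obtain ⟨a, ha, haφ⟩ := (hmem _).1 hij
      obtain ⟨b, hb, hbφ⟩ := (hmem _).1 hjk
      have hab : ¬ Commute a b := fun h => by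
        rcases (C.commute a ha.1 b hb.1).1 h with h' | h'
        · exact hijk (haφ ▸ hbφ ▸ h')
        · rw [haφ, hbφ] at h'
          exact Finset.disjoint_left.1 h' (mem_insert_of_mem (mem_singleton_self j)) (mem_insert_self j _)
      have hc : cj a b ∈ perp D x := (cj_mem_perp hD hx (Set.mem_insert_of_mem _ ha.1) hb.1).1
      have hd' : Commute d (cj a b) := (ha.2.mul_right hb.2).mul_right ha.2
      refine (hmem _).2 ⟨_, ⟨hc, hd'⟩, ?_⟩
      rw [C.cj a ha.1 b hb.1 hab, haφ, hbφ]
      have hij' : i ≠ j := fun e => by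
        have := C.two a ha.1
        rw [haφ, e] at this
        simp at this
      have hjk' : j ≠ k := fun e => by
        have := C.two b hb.1
        rw [hbφ, e] at this
        simp at this
      ext u
      simp only [mem_insert, mem_singleton, mem_sdiff, mem_union, mem_inter]
      grind
    · obtain ⟨y, hy, rfl⟩ := (hmem P).1 hP
      obtain ⟨g, hg⟩ := hF.trans x hx y hy.1.1
      obtain ⟨C'⟩ := C.transport hF g hg
      have hxy : x ∈ perp D y := ⟨hx, hy.1.2.1.symm, hy.1.2.2.symm⟩
      have hdy : d ∈ perp D y := ⟨hd, fun e => hxd (e ▸ hy.1.2.2), hy.2.symm⟩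
      rw [Fintype.card_fin, ← C'.card_trace hF hxy hdy hxd]
      symm
      refine C.card_eq hF (fun z hz => ⟨hz.1.1, hz.2.2.2, hz.2.1.symm⟩) _ fun P => ?_
      rw [mem_filter, hmem]
      constructor
      · rintro ⟨⟨z, hz, rfl⟩, hdis⟩
        refine ⟨z, ⟨⟨hz.1.1, fun e => ?_, (C.commute y hy.1 z hz.1).2 (Or.inr hdis)⟩, hz.1.2.2.symm, hz.2.symm,
          hz.1.2.1⟩, rfl⟩
        subst e
        rw [disjoint_self_iff_empty] at hdis
        simpa [hdis] using C.two z hz.1
      · rintro ⟨z, ⟨hzy, hzx, hzd, hne⟩, rfl⟩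
        have hz : z ∈ perp D x := ⟨hzy.1, hne, hzx.symm⟩
        refine ⟨⟨z, ⟨hz, hzd.symm⟩, rfl⟩, ?_⟩
        rcases (C.commute y hy.1 z hz).1 hzy.2.2 with h | h
        · exact absurd (C.inj y hy.1 z hz h).symm hzy.2.1
        · exact h
  refine ⟨d, hd, hxd, ?_⟩
  rcases hconf.shape (by rwa [Fintype.card_fin]) ⟨_, (hmem _).2 ⟨y₀, hy₀, rfl⟩⟩ with hall | ⟨k, hk⟩ | ⟨h5, h2⟩
  · exfalso
    refine hxd ((eq_of_perp_subset hF hx hd fun y hy => ?_) ▸ Commute.refl x)
    exact ⟨hy.1, fun e => hxd (e ▸ hy.2.2), (hmem' y hy).1 (hall _ (C.two y hy))⟩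
  · exact ⟨k, fun y hy => (hmem' y hy).symm.trans (hk _ (C.two y hy))⟩
  · exfalso
    rw [Fintype.card_fin] at h5
    refine no_forty_one hF hx hd hxd hy₀.1 ?_ ?_ ?_
    · rw [C.card_perp hF, h5]; rfl
    · rw [C.card_inner hF hy₀.1, h5]; rfl
    · rw [inner_eq_common hxd, C.card_eq hF (fun z hz => hz.1) S hmem, h2]

/-- The identification. -/
theorem iso_of_point (hx : x ∈ D) {m : ℕ} (hm : 4 ≤ m) (C : Chart D x (m + 1)) {d : G} (hd : d ∈ D)
    (hxd : ¬ Commute x d) {k : Fin (m + 1)} (hk : ∀ y ∈ perp D x, (Commute d y ↔ k ∉ C.φ y)) :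
    ∃ e : G ≃* Perm (Fin (m + 3)), e '' D = {σ : Perm (Fin (m + 3)) | σ.IsSwap} := by
  classical
  have hD := hF.toTrans
  obtain ⟨σ, hσ, hσl⟩ : ∃ σ : ℕ → Fin (m + 1), (∀ a b, a ≤ m → b ≤ m → σ a = σ b → a = b) ∧ σ m = k := by
    refine ⟨fun a => swap k (Fin.last m) ⟨min a m, by omega⟩, fun a b ha hb h => ?_, ?_⟩
    · have := congrArg Fin.val ((swap k (Fin.last m)).injective h)
      simp only at this
      omega
    · have e : (⟨min m m, by omega⟩ : Fin (m + 1)) = Fin.last m := Fin.ext (by simp)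
      simp only [e, swap_apply_right]
  have hex : ∀ a : ℕ, ∃ y : G, a < m → y ∈ perp D x ∧ C.φ y = {σ a, σ (a + 1)} := fun a => by
    by_cases ha : a < m
    · obtain ⟨y, hy, he⟩ := C.surj {σ a, σ (a + 1)} (card_pair fun h => by
        have := hσ a (a + 1) (by omega) (by omega) h
        omega)
      exact ⟨y, fun _ => ⟨hy, he⟩⟩
    · exact ⟨1, fun h => absurd h ha⟩
  choose q hq using hex
  obtain ⟨g, hgdef⟩ : ∃ g : Fin (m + 2) → G,
      g = fun i : Fin (m + 2) => if (i : ℕ) < m then q i else if (i : ℕ) = m then d else x := ⟨_, rfl⟩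
  have hg1 : ∀ i : Fin (m + 2), (i : ℕ) < m → g i = q i := fun i h => by rw [hgdef]; exact if_pos h
  have hg2 : ∀ i : Fin (m + 2), (i : ℕ) = m → g i = d := fun i h => by
    rw [hgdef]; simp only [h, lt_irrefl, if_false, if_true]
  have hg3 : ∀ i : Fin (m + 2), (i : ℕ) = m + 1 → g i = x := fun i h => by
    rw [hgdef]; simp only [h]; rw [if_neg (by omega), if_neg (by omega)]
  have hgD : ∀ i, g i ∈ D := fun i => by
    rcases lt_trichotomy (i : ℕ) m with h | h | h
    · rw [hg1 i h]; exact (hq i h).1.1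
    · rw [hg2 i h]; exact hd
    · rw [hg3 i (by omega)]; exact hx
  have hne : ∀ a b, a ≤ m → b ≤ m → a ≠ b → σ a ≠ σ b := fun a b ha hb h e => h (hσ a b ha hb e)
  have hfar : ∀ i j : Fin (m + 2), (i : ℕ) + 2 ≤ j → Commute (g i) (g j) := by
    intro i j hij
    rcases lt_trichotomy (j : ℕ) m with h | h | h
    · rw [hg1 i (by omega), hg1 j h]
      refine (C.commute _ (hq i (by omega)).1 _ (hq j h).1).2 (Or.inr ?_)
      rw [(hq i (by omega)).2, (hq j h).2]
      have h1 := hne i j (by omega) (by omega) (by omega)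
      have h2 := hne i (j + 1) (by omega) (by omega) (by omega)
      have h3 := hne (i + 1) j (by omega) (by omega) (by omega)
      have h4 := hne (i + 1) (j + 1) (by omega) (by omega) (by omega)
      rw [Finset.disjoint_left]
      simp only [mem_insert, mem_singleton]
      rintro u (rfl | rfl) (hu | hu) <;> contradiction
    · rw [hg1 i (by omega), hg2 j h]
      refine ((hk _ (hq i (by omega)).1).2 ?_).symm
      rw [(hq i (by omega)).2, ← hσl]
      simp only [mem_insert, mem_singleton, not_or]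
      exact ⟨hne m i le_rfl (by omega) (by omega), hne m (i + 1) le_rfl (by omega) (by omega)⟩
    · rw [hg1 i (by omega), hg3 j (by omega)]
      exact (hq i (by omega)).1.2.2.symm
  have hnear : ∀ i j : Fin (m + 2), (i : ℕ) + 1 = j → ¬ Commute (g i) (g j) := by
    intro i j hij
    rcases lt_trichotomy (j : ℕ) m with h | h | h
    · rw [hg1 i (by omega), hg1 j h]
      intro hc
      rcases (C.commute _ (hq i (by omega)).1 _ (hq j h).1).1 hc with h' | h' <;>
        rw [(hq i (by omega)).2, (hq j h).2] at h'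
      · have hmem : σ i ∈ ({σ j, σ (j + 1)} : Finset (Fin (m + 1))) := h' ▸ mem_insert_self _ _
        simp only [mem_insert, mem_singleton] at hmem
        rcases hmem with e | e
        · exact hne i j (by omega) (by omega) (by omega) e
        · exact hne i (j + 1) (by omega) (by omega) (by omega) e
      · exact Finset.disjoint_left.1 h' (mem_insert_of_mem (mem_singleton_self _)) (by rw [hij]; exact mem_insert_self _ _)
    · rw [hg1 i (by omega), hg2 j h]
      intro hc
      refine (hk _ (hq i (by omega)).1).1 hc.symm ?_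
      rw [(hq i (by omega)).2, hij, h, hσl]
      exact mem_insert_of_mem (mem_singleton_self _)
    · rw [hg2 i (by omega), hg3 j (by omega)]
      exact fun hc => hxd hc.symm
  have hadj : LocalSym.AdjN fun i : Fin (m + 2) => swap i.castSucc i.succ := by
    refine ⟨fun i => swap_mul_self _ _, fun i j h => ?_, fun i j h => ?_⟩
    · refine (Perm.disjoint_iff_disjoint_support.2 ?_).commute.eq
      rw [Perm.support_swap (Fin.castSucc_lt_succ).ne, Perm.support_swap (Fin.castSucc_lt_succ).ne]
      rw [Finset.disjoint_left]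
      simp only [mem_insert, mem_singleton, Fin.ext_iff, Fin.val_castSucc, Fin.val_succ]
      omega
    · have e : j.castSucc = i.succ := Fin.ext (by simp; omega)
      have hne1 : (i.castSucc : Fin (m + 3)) ≠ j.succ := fun h' => by
        have := congrArg Fin.val h'
        simp at this; omega
      have hab : i.castSucc ≠ i.succ := (Fin.castSucc_lt_succ).ne
      have hcb : j.succ ≠ i.succ := fun h' => by
        have := congrArg Fin.val h'
        simp at this; omega
      have h1 := swap_mul_swap_mul_swap hab hne1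
      have h2 := swap_mul_swap_mul_swap hcb hne1.symm
      rw [swap_comm i.succ i.castSucc, swap_comm j.succ i.succ, swap_comm i.castSucc j.succ] at h2
      show swap i.castSucc i.succ * swap j.castSucc j.succ * swap i.castSucc i.succ =
        swap j.castSucc j.succ * swap i.castSucc i.succ * swap j.castSucc j.succ
      rw [e]
      exact h2.trans h1.symm
  obtain ⟨φ, hφ⟩ := LocalSym.exists_homN (g := g) ⟨fun i => mul_self hD (hgD i),
    fun i j h => (hfar i j h).eq, fun i j h => braid hD (hgD i) (hgD j) (hnear i j h)⟩ hadj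
  have hswap : ∀ a b : Fin (m + 3), a ≠ b → φ (swap a b) ∈ D := by
    intro a b hab
    obtain ⟨τ, hτ⟩ := isConj_iff.1 (Perm.isConj_swap
      (show (Fin.last (m + 1)).castSucc ≠ (Fin.last (m + 1)).succ from (Fin.castSucc_lt_succ).ne) hab)
    rw [← hτ, map_mul, map_mul, map_inv, hφ]
    exact hD.conj _ _ (hgD _)
  -- the images of the transpositions of the first `m + 1` points
  have hlow : ∀ b, ∀ a, a < b → ∀ (hb : b ≤ m), ∀ (A B : Fin (m + 3)), (A : ℕ) = a → (B : ℕ) = b →
      φ (swap A B) ∈ perp D x ∧ C.φ (φ (swap A B)) = {σ a, σ b} := by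
    intro b
    induction b with
    | zero => intro a ha; omega
    | succ b ih =>
      intro a hab hb A B hA hB
      let i : Fin (m + 2) := ⟨b, by omega⟩
      have hBi : B = i.succ := Fin.ext (by simp [i, hB])
      obtain ⟨hqm, hqφ⟩ := hq b (by omega)
      have hgi : g i = q b := hg1 i (by simp [i]; omega)
      rcases Nat.eq_or_lt_of_le (Nat.lt_succ_iff.1 hab) with rfl | hlt
      · rw [show A = i.castSucc from Fin.ext (by simp [i, hA]), hBi, hφ, hgi]
        exact ⟨hqm, hqφ⟩
      · obtain ⟨h1, h2⟩ := ih a hlt (by omega) A i.castSucc hA rfl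
        have hAi : A ≠ i.castSucc := fun e => by
          have := congrArg Fin.val e
          simp [i] at this; omega
        have hAi' : A ≠ i.succ := fun e => by
          have := congrArg Fin.val e
          simp [i] at this; omega
        have e : swap A B = swap i.castSucc i.succ * swap A i.castSucc * swap i.castSucc i.succ := by
          rw [hBi, swap_comm A i.succ, swap_mul_swap_mul_swap hAi hAi']
        rw [e, map_mul, map_mul, hφ, hgi]
        have hne1 := hne a b (by omega) (by omega) (by omega)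
        have hne2 := hne b (b + 1) (by omega) (by omega) (by omega)
        have hne3 := hne a (b + 1) (by omega) (by omega) (by omega)
        have hnc : ¬ Commute (q b) (φ (swap A i.castSucc)) := fun hc => by
          rcases (C.commute _ hqm _ h1).1 hc with h' | h' <;> rw [hqφ, h2] at h'
          · have hmem : σ a ∈ ({σ b, σ (b + 1)} : Finset (Fin (m + 1))) := h' ▸ mem_insert_self _ _
            simp only [mem_insert, mem_singleton] at hmem
            exact hmem.elim hne1 hne3
          · exact Finset.disjoint_left.1 h' (mem_insert_self _ _) (mem_insert_of_mem (mem_singleton_self _))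
        refine ⟨(cj_mem_perp hD hx (Set.mem_insert_of_mem _ hqm) h1).1, ?_⟩
        show C.φ (cj (q b) (φ (swap A i.castSucc))) = _
        rw [C.cj _ hqm _ h1 hnc, hqφ, h2]
        ext u
        simp only [mem_insert, mem_singleton, mem_sdiff, mem_union, mem_inter]
        grind
  have hxr : φ (swap (Fin.last (m + 1)).castSucc (Fin.last (m + 1)).succ) = x := by
    rw [hφ]; exact hg3 _ (by simp)
  have hdr : φ (swap (⟨m, by omega⟩ : Fin (m + 2)).castSucc (⟨m, by omega⟩ : Fin (m + 2)).succ) = d := by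
    rw [hφ]; exact hg2 _ rfl
  have hrangeperp : ∀ y ∈ perp D x, ∃ A B : Fin (m + 3), A ≠ B ∧ φ (swap A B) = y := by
    intro y hy
    obtain ⟨u, v, huv, he⟩ := card_eq_two.1 (C.two y hy)
    have hs : ∀ u : Fin (m + 1), ∃ a, a ≤ m ∧ σ a = u := by
      intro u
      let f : Fin (m + 1) → Fin (m + 1) := fun a => σ a
      have hf : Function.Surjective f := Finite.injective_iff_surjective.1
        fun a b h => Fin.ext (hσ a b (by omega) (by omega) h)
      obtain ⟨a, ha⟩ := hf u
      exact ⟨a, by omega, ha⟩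
    obtain ⟨a, ha, rfl⟩ := hs u
    obtain ⟨b, hb, rfl⟩ := hs v
    rcases lt_trichotomy a b with h | h | h
    · refine ⟨⟨a, by omega⟩, ⟨b, by omega⟩, fun e => by simp [Fin.ext_iff] at e; omega, ?_⟩
      obtain ⟨h1, h2⟩ := hlow b a h hb ⟨a, by omega⟩ ⟨b, by omega⟩ rfl rfl
      exact C.inj _ h1 y hy (h2.trans he.symm)
    · exact absurd (h ▸ rfl) huv
    · refine ⟨⟨b, by omega⟩, ⟨a, by omega⟩, fun e => by simp [Fin.ext_iff] at e; omega, ?_⟩
      obtain ⟨h1, h2⟩ := hlow a b h ha ⟨b, by omega⟩ ⟨a, by omega⟩ rfl rfl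
      exact C.inj _ h1 y hy (h2.trans ((Finset.pair_comm _ _).trans he.symm))
  have hH : Subgroup.closure (insert x (perp D x)) ≤ φ.range := by
    rw [Subgroup.closure_le]
    rintro y (rfl | hy)
    · exact ⟨_, hxr⟩
    · obtain ⟨A, B, -, h⟩ := hrangeperp y hy
      exact ⟨_, h⟩
  have himg : ∀ y ∈ D, ∃ A B : Fin (m + 3), A ≠ B ∧ φ (swap A B) = y := by
    intro y hy
    by_cases hxy : Commute x y
    · by_cases he : y = x
      · exact ⟨_, _, (Fin.castSucc_lt_succ).ne, hxr.trans he.symm⟩
      · exact hrangeperp y ⟨hy, he, hxy⟩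
    · obtain ⟨h, hh, hhd⟩ := orb_all hF hx hd hy hxd hxy
      obtain ⟨τ, hτ⟩ := hH hh
      refine ⟨τ (⟨m, by omega⟩ : Fin (m + 2)).castSucc, τ (⟨m, by omega⟩ : Fin (m + 2)).succ,
        τ.injective.ne (Fin.castSucc_lt_succ).ne, ?_⟩
      rw [Equiv.swap_apply_apply, map_mul, map_mul, map_inv, hdr, hτ, hhd]
  have hsurj : Function.Surjective φ := by
    rw [← MonoidHom.range_eq_top, eq_top_iff, ← hD.gen, Subgroup.closure_le]
    intro y hy
    obtain ⟨A, B, -, h⟩ := himg y hy
    exact ⟨_, h⟩
  have hinj : Function.Injective φ := by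
    rw [← MonoidHom.ker_eq_bot_iff]
    by_contra hne'
    have hle := Perm.alternatingGroup_le_of_normal (α := Fin (m + 3)) (by simp; omega)
      (N := φ.ker) ((Subgroup.nontrivial_iff_ne_bot _).2 hne')
    obtain ⟨u, hu⟩ : ∃ u : Fin (m + 2), u = ⟨m, by omega⟩ := ⟨_, rfl⟩
    have hmem : swap u.castSucc u.succ * swap (Fin.last (m + 1)).castSucc (Fin.last (m + 1)).succ ∈
        alternatingGroup (Fin (m + 3)) := by
      rw [Perm.mem_alternatingGroup, map_mul, Perm.sign_swap (Fin.castSucc_lt_succ).ne,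
        Perm.sign_swap (Fin.castSucc_lt_succ).ne]
      norm_num
    have h := hle hmem
    rw [MonoidHom.mem_ker, map_mul, hu, hdr, hxr] at h
    have hdx : d = x := by rw [eq_inv_of_mul_eq_one_left h, inv_eq hD hx]
    exact hxd (hdx ▸ Commute.refl _)
  refine ⟨(MulEquiv.ofBijective φ ⟨hinj, hsurj⟩).symm, ?_⟩
  ext τ
  constructor
  · rintro ⟨y, hy, rfl⟩
    obtain ⟨A, B, hAB, rfl⟩ := himg y hy
    refine ⟨A, B, hAB, ?_⟩
    rw [MulEquiv.symm_apply_eq]
    rfl
  · rintro ⟨A, B, hAB, rfl⟩
    refine ⟨φ (swap A B), hswap A B hAB, ?_⟩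
    rw [MulEquiv.symm_apply_eq]
    rfl

end Cfsg.Lib.Fischer.Thm.Sym

namespace Cfsg.Lib.Fischer.Thm

universe u

/-- The step. -/
theorem symStep : SymStep.{u} := by
  intro G _ _ D hF x hx _ n hn h
  obtain ⟨C⟩ := Sym.exists_chart hF hx h
  obtain ⟨d, hd, hxd, k, hk⟩ := Sym.exists_point hF hx C hn
  obtain ⟨m, rfl⟩ : ∃ m, n = m + 1 := ⟨n - 1, by omega⟩
  exact Sym.iso_of_point hF hx (by omega) C hd hxd hk

end Cfsg.Lib.Fischer.Thm
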